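import Groth.Agent.GaGmKerLib.GaPts
import Mathlib.AlgebraicGeometry.AffineScheme
import Groth.Prelude.Def_AlgSt5
import Mathlib.RingTheory.MvPolynomial.Basic
import Mathlib.AlgebraicGeometry.ResidueField

/-!
# The torsor of the additive group attached to two branches glued where a parameter is invertible
-/

set_option autoImplicit false
set_option linter.all false
set_option backward.isDefEq.respectTransparency false
set_option backward.isDefEq.respectTransparency.types false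
set_option maxHeartbeats 1000000

universe u

open CategoryTheory CategoryTheory.Limits MonoidalCategory CartesianMonoidalCategory MonObj GrpObj AlgebraicGeometry
open Opposite
open Groth.Agent

noncomputable section

namespace ThetaBGa

/-- The value of a global function at a point. -/
abbrev ev {Z : Scheme.{u}} (z : Z) : Γ(Z, ⊤) →+* Z.residueField z := (Z.Γevaluation z).hom

theorem ev_ne {Z : Scheme.{u}} (z : Z) (f : Γ(Z, ⊤)) : ev z f ≠ 0 ↔ z ∈ Z.basicOpen f :=
  Z.evaluation_ne_zero_iff_mem_basicOpen (U := ⊤) z trivial f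

theorem ev_comp_ne {Z Y : Scheme.{u}} (g : Z ⟶ Y) (z : Z) (f : Γ(Y, ⊤)) :
    ev z (g.appTop f) ≠ 0 ↔ g z ∈ Y.basicOpen f := by
  rw [ev_ne, ← Scheme.preimage_basicOpen_top]
  rfl

/-- Restriction of global functions. -/
abbrev rsc {Z : Scheme.{u}} (U : Z.Opens) : Γ(Z, ⊤) ⟶ Γ(Z, U) := Z.presheaf.map (homOfLE (le_top : U ≤ ⊤)).op

theorem rsc_rsc {Z : Scheme.{u}} {U V : Z.Opens} (h : V ≤ U) (f : Γ(Z, ⊤)) :
    Z.presheaf.map (homOfLE h).op (rsc U f) = rsc V f := by
  rw [← CommRingCat.comp_apply, ← Functor.map_comp]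
  rfl

theorem isUnit_rsc {Z : Scheme.{u}} (a : Γ(Z, ⊤)) : IsUnit (rsc (Z.basicOpen a) a) :=
  RingedSpace.isUnit_res_basicOpen Z.toLocallyRingedSpace.toRingedSpace a

theorem exists_glue {Z : Scheme.{u}} (p N d e : Γ(Z, ⊤)) (hcov : ∀ z, ev z p ≠ 0 ∨ ev z N ≠ 0)
    (heq : d * N = p * e) : ∃ l : Γ(Z, ⊤), p * l = d ∧ N * l = e := by
  let U : Bool → Z.Opens := fun b => cond b (Z.basicOpen p) (Z.basicOpen N)
  let r : ∀ W : Z.Opens, Γ(Z, ⊤) →+* Γ(Z, W) := fun W => (rsc W).hom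
  have hr : ∀ (W W' : Z.Opens) (hW : W' ≤ W) (x : Γ(Z, ⊤)),
      Z.presheaf.map (homOfLE hW).op (r W x) = r W' x := fun W W' hW x => rsc_rsc hW x
  have hp : IsUnit (r (Z.basicOpen p) p) := isUnit_rsc p
  have hN : IsUnit (r (Z.basicOpen N) N) := isUnit_rsc N
  obtain ⟨a, ha⟩ := hp.dvd (a := r (Z.basicOpen p) d)
  obtain ⟨b, hb⟩ := hN.dvd (a := r (Z.basicOpen N) e)
  have hab : ∀ (W : Z.Opens) (h₁ : W ≤ Z.basicOpen p) (h₂ : W ≤ Z.basicOpen N),
      Z.presheaf.map (homOfLE h₁).op a = Z.presheaf.map (homOfLE h₂).op b := fun W h₁ h₂ => by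
    have e₁ := congrArg (Z.presheaf.map (homOfLE h₁).op) ha
    have e₂ := congrArg (Z.presheaf.map (homOfLE h₂).op) hb
    rw [map_mul, hr, hr] at e₁ e₂
    have u₁ := (isUnit_rsc p).map (Z.presheaf.map (homOfLE h₁).op).hom
    have u₂ := (isUnit_rsc N).map (Z.presheaf.map (homOfLE h₂).op).hom
    have hr₁ := hr _ _ h₁ p
    have hr₂ := hr _ _ h₂ N
    change IsUnit (Z.presheaf.map (homOfLE h₁).op (r (Z.basicOpen p) p)) at u₁
    change IsUnit (Z.presheaf.map (homOfLE h₂).op (r (Z.basicOpen N) N)) at u₂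
    rw [hr] at u₁ u₂
    have h' := congrArg (r W) heq
    rw [map_mul, map_mul, e₁, e₂] at h'
    exact (u₁.mul u₂).mul_left_cancel (by linear_combination h')
  obtain ⟨l, hl, -⟩ := TopCat.Sheaf.existsUnique_gluing' Z.sheaf U ⊤ (fun b => homOfLE le_top)
    (fun z _ => by
      rcases hcov z with h | h
      · exact TopologicalSpace.Opens.mem_iSup.2 ⟨true, (ev_ne z p).1 h⟩
      · exact TopologicalSpace.Opens.mem_iSup.2 ⟨false, (ev_ne z N).1 h⟩)
    (fun i => match i with | true => a | false => b)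
    (fun i j => by
      cases i <;> cases j
      · rfl
      · exact (hab _ inf_le_right inf_le_left).symm
      · exact hab _ inf_le_left inf_le_right
      · rfl)
  have hla : r (Z.basicOpen p) l = a := hl true
  have hlb : r (Z.basicOpen N) l = b := hl false
  have hc : (⊤ : Z.Opens) ≤ Z.basicOpen p ⊔ Z.basicOpen N := fun z _ => by
    rcases hcov z with h | h
    · exact Or.inl ((ev_ne z p).1 h)
    · exact Or.inr ((ev_ne z N).1 h)
  have key : ∀ s t : Γ(Z, ⊤), r (Z.basicOpen p) s = r (Z.basicOpen p) t →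
      r (Z.basicOpen N) s = r (Z.basicOpen N) t → s = t := fun s t h₁ h₂ =>
    TopCat.Sheaf.eq_of_locally_eq₂ Z.sheaf (homOfLE le_top) (homOfLE le_top) hc s t h₁ h₂
  have h₁ := congrArg (r (Z.basicOpen p)) heq
  have h₂ := congrArg (r (Z.basicOpen N)) heq
  rw [map_mul, map_mul] at h₁ h₂
  refine ⟨l, key _ _ ?_ ?_, key _ _ ?_ ?_⟩ <;> simp only [map_mul, hla, hlb]
  · exact ha.symm
  · exact hN.mul_left_cancel (by linear_combination -h₂ - (r (Z.basicOpen N) p) * hb)
  · exact hp.mul_left_cancel (by linear_combination h₁ - (r (Z.basicOpen p) N) * ha)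
  · exact hb.symm

/-- A morphism to an affine scheme from a ring map. -/
def toAff {Z : Scheme.{u}} {A : CommRingCat.{u}} (φ : A ⟶ Γ(Z, ⊤)) : Z ⟶ Spec A :=
  Z.toSpecΓ ≫ Spec.map φ

theorem toAff_appTop {Z : Scheme.{u}} {A : CommRingCat.{u}} (φ : A ⟶ Γ(Z, ⊤)) (a : A) :
    (toAff φ).appTop ((Scheme.ΓSpecIso A).inv a) = φ a := by
  have h : (Scheme.ΓSpecIso A).inv ≫ (toAff φ).appTop = φ := by
    rw [toAff, Scheme.Hom.comp_appTop, ← Category.assoc, ← Scheme.ΓSpecIso_inv_naturality, Category.assoc,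
      Scheme.toSpecΓ_appTop, Iso.inv_hom_id, Category.comp_id]
  exact ConcreteCategory.congr_hom h a

theorem aff_ext {Z : Scheme.{u}} {A : CommRingCat.{u}} {f g : Z ⟶ Spec A}
    (h : ∀ a, f.appTop ((Scheme.ΓSpecIso A).inv a) = g.appTop ((Scheme.ΓSpecIso A).inv a)) : f = g := by
  refine ext_of_isAffine ?_
  rw [← cancel_epi (Scheme.ΓSpecIso A).inv]
  exact ConcreteCategory.hom_ext _ _ h

variable {R : Type u} [CommRing R] {S : Scheme.{u}} (h : Spec (CommRingCat.of R) ⟶ S) (π : R)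

/-- The parameter as a function. -/
def piFn (T : Over (Spec (CommRingCat.of R))) : Γ(T.left, ⊤) :=
  T.hom.appTop ((Scheme.ΓSpecIso (CommRingCat.of R)).inv π)

theorem piFn_comp {T T' : Over (Spec (CommRingCat.of R))} (f : T' ⟶ T) :
    f.left.appTop (piFn π T) = piFn π T' := by
  rw [piFn, piFn, ← Over.w f, Scheme.Hom.comp_appTop]
  rfl

/-- Two opens covering a scheme over the ring, meeting where the parameter is invertible. -/
structure Br (T : Over (Spec (CommRingCat.of R))) where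
  U : T.left.Opens
  V : T.left.Opens
  cov : U ⊔ V = ⊤
  inf : U ⊓ V = T.left.basicOpen (piFn π T)

/-- The ring `R[u, v]/(π v - u (u + 1))`. -/
abbrev WRing : Type u :=
  MvPolynomial (Fin 2) R ⧸
    Ideal.span ({MvPolynomial.C π * MvPolynomial.X 1 - MvPolynomial.X 0 * (MvPolynomial.X 0 + 1)} :
      Set (MvPolynomial (Fin 2) R))

/-- Its structure morphism. -/
abbrev wHom : Spec (CommRingCat.of (WRing π)) ⟶ Spec (CommRingCat.of R) :=
  Spec.map (CommRingCat.ofHom (algebraMap R (WRing π)))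

/-- The coordinates. -/
abbrev coord (i : Fin 2) : Γ(Spec (CommRingCat.of (WRing π)), ⊤) :=
  (Scheme.ΓSpecIso (CommRingCat.of (WRing π))).inv (Ideal.Quotient.mk _ (MvPolynomial.X i))

variable {π} {T : Over (Spec (CommRingCat.of R))} (O : Br π T)

/-- The open of the fibre product. -/
def opE : (pullback T.hom (wHom π)).Opens :=
  (pullback.fst T.hom (wHom π) ⁻¹ᵁ O.U ⊓
      (pullback T.hom (wHom π)).basicOpen ((pullback.snd T.hom (wHom π)).appTop (coord π 0) + 1)) ⊔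
    (pullback.fst T.hom (wHom π) ⁻¹ᵁ O.V ⊓
      (pullback T.hom (wHom π)).basicOpen ((pullback.snd T.hom (wHom π)).appTop (coord π 0)))

/-- The total space. -/
abbrev PE : Over S := Over.mk (((opE O).ι ≫ pullback.fst T.hom (wHom π)) ≫ T.hom ≫ h)

/-- The projection. -/
abbrev pE : PE h O ⟶ (Over.map h).obj T := Over.homMk ((opE O).ι ≫ pullback.fst T.hom (wHom π)) rfl

variable {h O} {Z Z' : Over S}

variable (π) in
/-- The parameter along a point of the base. -/
def pf (τ : Z ⟶ (Over.map h).obj T) : Γ(Z.left, ⊤) := τ.left.appTop (piFn π T)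

/-- The coordinates of a point. -/
def cu (p : Z ⟶ PE h O) : Γ(Z.left, ⊤) :=
  (p.left ≫ (opE O).ι ≫ pullback.snd T.hom (wHom π)).appTop (coord π 0)

/-- The coordinates of a point. -/
def cv (p : Z ⟶ PE h O) : Γ(Z.left, ⊤) :=
  (p.left ≫ (opE O).ι ≫ pullback.snd T.hom (wHom π)).appTop (coord π 1)

theorem pf_comp (f : Z' ⟶ Z) (τ : Z ⟶ (Over.map h).obj T) : pf π (f ≫ τ) = f.left.appTop (pf π τ) := rfl

theorem cu_comp (f : Z' ⟶ Z) (p : Z ⟶ PE h O) : cu (f ≫ p) = f.left.appTop (cu p) := rfl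

theorem cv_comp (f : Z' ⟶ Z) (p : Z ⟶ PE h O) : cv (f ≫ p) = f.left.appTop (cv p) := rfl

variable (O) in
/-- The open condition on a point. -/
def Cnd (τ : Z ⟶ (Over.map h).obj T) (u : Γ(Z.left, ⊤)) : Prop :=
  ∀ z : Z.left, (τ.left z ∈ O.U ∧ ev z (u + 1) ≠ 0) ∨ (τ.left z ∈ O.V ∧ ev z u ≠ 0)

variable (O) in
theorem mem_UV (τ : Z ⟶ (Over.map h).obj T) (z : Z.left) :
    τ.left z ∈ O.U ∧ τ.left z ∈ O.V ↔ ev z (pf π τ) ≠ 0 := by
  rw [pf, ev_comp_ne]
  exact SetLike.ext_iff.1 O.inf (τ.left z)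

variable (O) in
theorem mem_U_or_V (τ : Z ⟶ (Over.map h).obj T) (z : Z.left) : τ.left z ∈ O.U ∨ τ.left z ∈ O.V := by
  have : τ.left z ∈ O.U ⊔ O.V := by rw [O.cov]; trivial
  exact this

theorem rel (p : Z ⟶ PE h O) : pf π (p ≫ pE h O) * cv p = cu p * (cu p + 1) := by
  let q := p.left ≫ (opE O).ι ≫ pullback.snd T.hom (wHom π)
  let χ : WRing π →+* Γ(Z.left, ⊤) := ((Scheme.ΓSpecIso (CommRingCat.of (WRing π))).inv ≫ q.appTop).hom
  have h1 : pf π (p ≫ pE h O) = χ (algebraMap R (WRing π) π) := by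
    show ((p ≫ pE h O).left ≫ T.hom).appTop ((Scheme.ΓSpecIso (CommRingCat.of R)).inv π) =
      q.appTop ((Scheme.ΓSpecIso (CommRingCat.of (WRing π))).inv ((CommRingCat.ofHom (algebraMap R (WRing π))) π))
    rw [← CommRingCat.comp_apply (CommRingCat.ofHom (algebraMap R (WRing π))), Scheme.ΓSpecIso_inv_naturality,
      CommRingCat.comp_apply, ← CommRingCat.comp_apply _ q.appTop, ← Scheme.Hom.comp_appTop]
    congr 2
    simp only [q, Over.comp_left, Over.homMk_left, Category.assoc, pullback.condition]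
  rw [h1]
  show χ (algebraMap R (WRing π) π) * χ (Ideal.Quotient.mk _ (MvPolynomial.X 1)) =
    χ (Ideal.Quotient.mk _ (MvPolynomial.X 0)) * (χ (Ideal.Quotient.mk _ (MvPolynomial.X 0)) + 1)
  rw [← map_one χ, ← map_mul, ← map_add, ← map_mul]
  congr 1
  rw [← map_one (Ideal.Quotient.mk _), ← map_add, ← map_mul,
    show algebraMap R (WRing π) π = Ideal.Quotient.mk _ (MvPolynomial.C π) from rfl, ← map_mul,
    Ideal.Quotient.mk_eq_mk_iff_sub_mem]
  exact Ideal.subset_span rfl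

theorem cnd (p : Z ⟶ PE h O) : Cnd O (p ≫ pE h O) (cu p) := by
  intro z
  let w : (pullback T.hom (wHom π) : Scheme.{u}) := (p.left ≫ (opE O).ι) z
  have hw : w ∈ opE O := (p.left z).2
  have e : ∀ a, ev z ((p.left ≫ (opE O).ι).appTop a) ≠ 0 ↔ w ∈ (pullback T.hom (wHom π)).basicOpen a :=
    fun a => ev_comp_ne _ z a
  rcases hw with ⟨h₁, h₂⟩ | ⟨h₁, h₂⟩
  · refine Or.inl ⟨h₁, ?_⟩
    have := (e _).2 h₂
    rw [map_add, map_one] at this
    exact this
  · exact Or.inr ⟨h₁, (e _).2 h₂⟩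

theorem pt_ext {p q : Z ⟶ PE h O} (h₁ : p ≫ pE h O = q ≫ pE h O) (h₂ : cu p = cu q) (h₃ : cv p = cv q) :
    p = q := by
  have hf : (p.left ≫ (opE O).ι) ≫ pullback.fst T.hom (wHom π) =
      (q.left ≫ (opE O).ι) ≫ pullback.fst T.hom (wHom π) := by
    simpa using congrArg CommaMorphism.left h₁
  ext1
  rw [← cancel_mono (opE O).ι]
  refine pullback.hom_ext hf (aff_ext fun a => ?_)
  let χ : ∀ r : Z ⟶ PE h O, WRing π →+* Γ(Z.left, ⊤) := fun r =>
    ((Scheme.ΓSpecIso (CommRingCat.of (WRing π))).inv ≫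
      (r.left ≫ (opE O).ι ≫ pullback.snd T.hom (wHom π)).appTop).hom
  have hχ : ∀ (r : Z ⟶ PE h O) (c : R), χ r (algebraMap R (WRing π) c) =
      (((r.left ≫ (opE O).ι) ≫ pullback.fst T.hom (wHom π)) ≫ T.hom).appTop
        ((Scheme.ΓSpecIso (CommRingCat.of R)).inv c) := fun r c => by
    show (r.left ≫ (opE O).ι ≫ pullback.snd T.hom (wHom π)).appTop
      ((Scheme.ΓSpecIso (CommRingCat.of (WRing π))).inv ((CommRingCat.ofHom (algebraMap R (WRing π))) c)) = _
    rw [← CommRingCat.comp_apply (CommRingCat.ofHom (algebraMap R (WRing π))), Scheme.ΓSpecIso_inv_naturality,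
      CommRingCat.comp_apply, ← CommRingCat.comp_apply _ (Scheme.Hom.appTop _), ← Scheme.Hom.comp_appTop]
    congr 2
    simp only [Category.assoc, pullback.condition]
  suffices χ p = χ q by
    have := DFunLike.congr_fun this a
    exact this
  refine Ideal.Quotient.ringHom_ext (MvPolynomial.ringHom_ext (fun c => ?_) fun i => ?_)
  · show χ p (algebraMap R (WRing π) c) = χ q (algebraMap R (WRing π) c)
    rw [hχ, hχ, hf]
  · fin_cases i
    · exact h₂
    · exact h₃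

theorem exists_pt (τ : Z ⟶ (Over.map h).obj T) (u v : Γ(Z.left, ⊤)) (hr : pf π τ * v = u * (u + 1))
    (hc : Cnd O τ u) : ∃ p : Z ⟶ PE h O, p ≫ pE h O = τ ∧ cu p = u ∧ cv p = v := by
  let ρ : R →+* Γ(Z.left, ⊤) :=
    ((Scheme.ΓSpecIso (CommRingCat.of R)).inv ≫ (τ.left ≫ T.hom).appTop).hom
  have hρ : ρ π = pf π τ := rfl
  let χ : WRing π →+* Γ(Z.left, ⊤) := Ideal.Quotient.lift _ (MvPolynomial.eval₂Hom ρ ![u, v]) (fun a ha => by
    obtain ⟨c, rfl⟩ := Ideal.mem_span_singleton'.1 ha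
    rw [map_mul]
    simp [hρ, hr])
  let g : Z.left ⟶ Spec (CommRingCat.of (WRing π)) := toAff (CommRingCat.ofHom χ)
  have hg : τ.left ≫ T.hom = g ≫ wHom π := aff_ext fun c => by
    have hn := ConcreteCategory.congr_hom (Scheme.ΓSpecIso_inv_naturality (CommRingCat.ofHom (algebraMap R (WRing π)))) c
    show _ = g.appTop ((Spec.map (CommRingCat.ofHom (algebraMap R (WRing π)))).appTop _)
    refine Eq.trans ?_ (congrArg (fun x => g.appTop x) hn)
    refine Eq.trans ?_ (toAff_appTop _ _).symm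
    show ρ c = χ (Ideal.Quotient.mk _ (MvPolynomial.C c))
    rw [Ideal.Quotient.lift_mk, MvPolynomial.eval₂Hom_C]
  let e : Z.left ⟶ pullback T.hom (wHom π) := pullback.lift τ.left g hg
  have he₁ : e ≫ pullback.fst T.hom (wHom π) = τ.left := pullback.lift_fst _ _ _
  have he₂ : e ≫ pullback.snd T.hom (wHom π) = g := pullback.lift_snd _ _ _
  have hu : (e ≫ pullback.snd T.hom (wHom π)).appTop (coord π 0) = u := by
    rw [he₂]
    refine (toAff_appTop _ _).trans ?_
    show χ (Ideal.Quotient.mk _ (MvPolynomial.X 0)) = u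
    simp [χ]
  have hv : (e ≫ pullback.snd T.hom (wHom π)).appTop (coord π 1) = v := by
    rw [he₂]
    refine (toAff_appTop _ _).trans ?_
    show χ (Ideal.Quotient.mk _ (MvPolynomial.X 1)) = v
    simp [χ]
  have hrange : Set.range e ⊆ Set.range (opE O).ι := by
    rw [Scheme.Opens.range_ι]
    rintro _ ⟨z, rfl⟩
    have hz : pullback.fst T.hom (wHom π) (e z) = τ.left z := congrArg (fun m : Z.left ⟶ T.left => m z) he₁
    rcases hc z with ⟨h₁, h₂⟩ | ⟨h₁, h₂⟩
    · refine Or.inl ⟨show pullback.fst T.hom (wHom π) (e z) ∈ O.U from hz ▸ h₁, (ev_comp_ne e z _).1 ?_⟩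
      rw [map_add, map_one]
      exact hu.symm ▸ h₂
    · refine Or.inr ⟨show pullback.fst T.hom (wHom π) (e z) ∈ O.V from hz ▸ h₁, (ev_comp_ne e z _).1 ?_⟩
      exact hu.symm ▸ h₂
  let l := IsOpenImmersion.lift (opE O).ι e hrange
  have hl : l ≫ (opE O).ι = e := IsOpenImmersion.lift_fac _ _ _
  refine ⟨Over.homMk l ?_, ?_, ?_, ?_⟩
  · show l ≫ ((opE O).ι ≫ pullback.fst T.hom (wHom π)) ≫ T.hom ≫ h = Z.hom
    simp only [← Category.assoc, hl, he₁]
    rw [Category.assoc]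
    exact Over.w τ
  · ext1
    show l ≫ (opE O).ι ≫ pullback.fst T.hom (wHom π) = τ.left
    rw [← Category.assoc, hl, he₁]
  · show (l ≫ (opE O).ι ≫ pullback.snd T.hom (wHom π)).appTop (coord π 0) = u
    rw [← Category.assoc, hl]; exact hu
  · show (l ≫ (opE O).ι ≫ pullback.snd T.hom (wHom π)).appTop (coord π 1) = v
    rw [← Category.assoc, hl]; exact hv

/-- The point with given coordinates. -/
def mkPt (τ : Z ⟶ (Over.map h).obj T) (u v : Γ(Z.left, ⊤)) (hr : pf π τ * v = u * (u + 1)) (hc : Cnd O τ u) :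
    Z ⟶ PE h O :=
  (exists_pt τ u v hr hc).choose

@[simp] theorem mkPt_π (τ : Z ⟶ (Over.map h).obj T) (u v : Γ(Z.left, ⊤)) (hr : pf π τ * v = u * (u + 1))
    (hc : Cnd O τ u) : mkPt τ u v hr hc ≫ pE h O = τ :=
  (exists_pt τ u v hr hc).choose_spec.1

@[simp] theorem cu_mkPt (τ : Z ⟶ (Over.map h).obj T) (u v : Γ(Z.left, ⊤)) (hr : pf π τ * v = u * (u + 1))
    (hc : Cnd O τ u) : cu (mkPt τ u v hr hc) = u :=
  (exists_pt τ u v hr hc).choose_spec.2.1

@[simp] theorem cv_mkPt (τ : Z ⟶ (Over.map h).obj T) (u v : Γ(Z.left, ⊤)) (hr : pf π τ * v = u * (u + 1))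
    (hc : Cnd O τ u) : cv (mkPt τ u v hr hc) = v :=
  (exists_pt τ u v hr hc).choose_spec.2.2

section Act

theorem rel_sh (p : Z ⟶ PE h O) (l : Γ(Z.left, ⊤)) :
    pf π (p ≫ pE h O) * (cv p + l * (2 * cu p + 1) + pf π (p ≫ pE h O) * l ^ 2) =
      (cu p + pf π (p ≫ pE h O) * l) * (cu p + pf π (p ≫ pE h O) * l + 1) := by
  linear_combination rel p

theorem cnd_sh (p : Z ⟶ PE h O) (l : Γ(Z.left, ⊤)) :
    Cnd O (p ≫ pE h O) (cu p + pf π (p ≫ pE h O) * l) := by
  intro z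
  by_cases hz : ev z (pf π (p ≫ pE h O)) = 0
  · simpa [map_add, map_mul, hz] using cnd p z
  · obtain ⟨hU, hV⟩ := (mem_UV O _ z).2 hz
    by_cases hu : ev z (cu p + pf π (p ≫ pE h O) * l) = 0
    · refine Or.inl ⟨hU, ?_⟩
      rw [map_add, hu, map_one, zero_add]
      exact one_ne_zero
    · exact Or.inr ⟨hV, hu⟩

/-- The shift of a point. -/
def sh (g : Z ⟶ Red.Ga S) (p : Z ⟶ PE h O) : Z ⟶ PE h O :=
  mkPt (p ≫ pE h O) _ _ (rel_sh p (Red.gaFn g)) (cnd_sh p _)

@[simp] theorem sh_π (g : Z ⟶ Red.Ga S) (p : Z ⟶ PE h O) : sh g p ≫ pE h O = p ≫ pE h O := mkPt_π ..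

@[simp] theorem cu_sh (g : Z ⟶ Red.Ga S) (p : Z ⟶ PE h O) :
    cu (sh g p) = cu p + pf π (p ≫ pE h O) * Red.gaFn g := cu_mkPt ..

@[simp] theorem cv_sh (g : Z ⟶ Red.Ga S) (p : Z ⟶ PE h O) :
    cv (sh g p) = cv p + Red.gaFn g * (2 * cu p + 1) + pf π (p ≫ pE h O) * Red.gaFn g ^ 2 := cv_mkPt ..

theorem comp_sh (f : Z' ⟶ Z) (g : Z ⟶ Red.Ga S) (p : Z ⟶ PE h O) : f ≫ sh g p = sh (f ≫ g) (f ≫ p) := by
  refine pt_ext ?_ ?_ ?_
  · simp
  · rw [cu_comp, cu_sh, cu_sh, Category.assoc, cu_comp, pf_comp f (p ≫ pE h O), GaPts.gaFn_comp, map_add, map_mul]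
  · rw [cv_comp, cv_sh, cv_sh, Category.assoc, cu_comp, cv_comp, pf_comp f (p ≫ pE h O), GaPts.gaFn_comp, map_add, map_add, map_mul,
      map_mul, map_add, map_mul, map_ofNat, map_one, map_pow]

theorem sh_one (p : Z ⟶ PE h O) : sh (1 : Z ⟶ Red.Ga S) p = p := by
  refine pt_ext (sh_π _ _) ?_ ?_ <;> simp [GaPts.gaFn_one]

theorem sh_mul (g g' : Z ⟶ Red.Ga S) (p : Z ⟶ PE h O) : sh (g * g') p = sh g (sh g' p) := by
  refine pt_ext (by simp) ?_ ?_ <;> simp [GaPts.gaFn_mul] <;> ring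

theorem exists_sh (p q : Z ⟶ PE h O) (e : p ≫ pE h O = q ≫ pE h O) : ∃ g, sh g q = p := by
  have r₁ := rel p
  have r₂ := rel q
  rw [e] at r₁
  obtain ⟨l, h₁, h₂⟩ := exists_glue (pf π (q ≫ pE h O)) (cu p + cu q + 1) (cu p - cu q) (cv p - cv q)
    (fun z => by
      by_cases hz : ev z (pf π (q ≫ pE h O)) = 0
      · right
        have hp := congrArg (ev z) r₁
        have hq := congrArg (ev z) r₂
        simp only [map_mul, hz, zero_mul, map_add, map_one] at hp hq
        have hn : ¬((q ≫ pE h O).left z ∈ O.U ∧ (q ≫ pE h O).left z ∈ O.V) := fun hh => (mem_UV O _ z).1 hh hz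
        have c₁ := cnd p z
        rw [e] at c₁
        have c₂ := cnd q z
        simp only [map_add, map_one] at c₁ c₂ ⊢
        rcases c₁ with ⟨m₁, a₁⟩ | ⟨m₁, a₁⟩ <;> rcases c₂ with ⟨m₂, a₂⟩ | ⟨m₂, a₂⟩
        · rw [(mul_eq_zero.1 hp.symm).resolve_right a₁, (mul_eq_zero.1 hq.symm).resolve_right a₂]
          simp
        · exact (hn ⟨m₁, m₂⟩).elim
        · exact (hn ⟨m₂, m₁⟩).elim
        · rw [eq_neg_of_add_eq_zero_left ((mul_eq_zero.1 hp.symm).resolve_left a₁),
            eq_neg_of_add_eq_zero_left ((mul_eq_zero.1 hq.symm).resolve_left a₂)]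
          simp
      · exact Or.inl hz)
    (by linear_combination r₂ - r₁)
  refine ⟨GaPts.ptOf l, pt_ext (by simp [e]) ?_ ?_⟩
  · rw [cu_sh, GaPts.gaFn_ptOf]; linear_combination h₁
  · rw [cv_sh, GaPts.gaFn_ptOf]; linear_combination h₂ + l * h₁

theorem sh_injective (q : Z ⟶ PE h O) : Function.Injective fun g : Z ⟶ Red.Ga S => sh g q := by
  intro g g' e
  have e₁ := congrArg cu e
  have e₂ := congrArg cv e
  simp only [cu_sh, cv_sh] at e₁ e₂
  refine GaPts.gaFn_injective ?_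
  show Red.gaFn g = Red.gaFn g'
  have r := rel q
  have k₁ : pf π (q ≫ pE h O) * (Red.gaFn g - Red.gaFn g') = 0 := by linear_combination e₁
  have k₂ : (2 * cu q + 1) * (Red.gaFn g - Red.gaFn g') = 0 := by
    linear_combination e₂ - (Red.gaFn g + Red.gaFn g') * k₁
  linear_combination (2 * cu q + 1) * k₂ - 4 * cv q * k₁ + 4 * (Red.gaFn g - Red.gaFn g') * r

end Act

variable (h O)

/-- The action. -/
def actE : AlgGrp.Action (Red.Ga S) (PE h O) where
  act := sh (fst _ _) (snd _ _)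
  one_act := by
    rw [comp_sh, whiskerRight_fst, whiskerRight_snd, toUnit_unique (fst _ _) (toUnit _), ← Hom.one_def, sh_one,
      leftUnitor_hom]
  mul_act := by
    rw [comp_sh, comp_sh, comp_sh, whiskerRight_fst, whiskerRight_snd, whiskerLeft_fst, whiskerLeft_snd,
      associator_hom_fst, ← Category.assoc (α_ _ _ _).hom, comp_sh]
    simp only [Category.assoc, associator_hom_snd_fst, associator_hom_snd_snd]
    rw [← sh_mul]
    congr 1
    rw [Hom.mul_def, ← comp_lift, lift_fst_snd, Category.comp_id]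

theorem act_π : (actE h O).act ≫ pE h O = snd (Red.Ga S) (PE h O) ≫ pE h O := sh_π _ _

theorem lift_act (g : Z ⟶ Red.Ga S) (p : Z ⟶ PE h O) : lift g p ≫ (actE h O).act = sh g p := by
  show lift g p ≫ sh _ _ = _
  rw [comp_sh, lift_fst, lift_snd]

theorem cartE : IsPullback (actE h O).act (snd (Red.Ga S) (PE h O)) (pE h O) (pE h O) := by
  refine IsPullback.of_isLimit (PullbackCone.IsLimit.mk (act_π h O)
    (fun s => lift (exists_sh s.fst s.snd s.condition).choose s.snd) (fun s => ?_) (fun s => lift_snd _ _)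
    (fun s m hm₁ hm₂ => ?_))
  · rw [lift_act]
    exact (exists_sh s.fst s.snd s.condition).choose_spec
  · have hm : m = lift (m ≫ fst _ _) s.snd := CartesianMonoidalCategory.hom_ext _ _ (by simp) (by simp [hm₂])
    rw [hm]
    congr 1
    apply sh_injective s.snd
    show sh _ s.snd = sh _ s.snd
    rw [(exists_sh s.fst s.snd s.condition).choose_spec, ← lift_act, ← hm, hm₁]

theorem locE : NonAbH1.IsLocallyTrivialFor Scheme.fppfPrecoverage
    (Over.mk (pE h O).left : Over ((Over.map h).obj T).left) := by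
  let W : Bool → T.left.Opens := fun b => cond b O.U O.V
  have hW : TopologicalSpace.IsOpenCover W := by
    refine eq_top_iff.2 ?_
    rw [← O.cov]
    exact sup_le (le_iSup W true) (le_iSup W false)
  refine ⟨Presieve.ofArrows (fun b => (W b).toScheme) (fun b => (W b).ι),
    Scheme.zariskiPrecoverage_le_fppfPrecoverage _ (T.left.openCoverOfIsOpenCover W hW).mem₀, ?_⟩
  rintro S' f ⟨b⟩
  let Zb : Over S := Over.mk ((W b).ι ≫ T.hom ≫ h)
  let τ : Zb ⟶ (Over.map h).obj T := Over.homMk (W b).ι rfl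
  let u : Γ(Zb.left, ⊤) := cond b 0 (-1)
  have hc : Cnd O τ u := fun z => by
    cases b
    · refine Or.inr ⟨z.2, ?_⟩
      simp [u]
    · refine Or.inl ⟨z.2, ?_⟩
      simp [u]
  have hr : pf π τ * 0 = u * (u + 1) := by cases b <;> simp [u]
  exact ⟨(mkPt τ u 0 hr hc).left, congrArg CommaMorphism.left (mkPt_π τ u 0 hr hc)⟩

/-- The torsor as an object of the classifying stack. -/
def tw : AlgSt.QuotObj Scheme.fppfPrecoverage (Red.Ga S) (AlgSt.trivAction (Red.Ga S)) where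
  base := (Over.map h).obj T
  P := PE h O
  act := actE h O
  π := pE h O
  cart := cartE h O
  loc := locE h O
  φ := toUnit _
  eqv := toUnit_unique _ _

variable {h O} {T' : Over (Spec (CommRingCat.of R))} {O' : Br π T'}

theorem pf_map (f : T' ⟶ T) (τ : Z ⟶ (Over.map h).obj T') :
    pf π (τ ≫ (Over.map h).map f) = pf π τ := by
  show τ.left.appTop (f.left.appTop (piFn π T)) = _
  rw [piFn_comp]
  rfl

variable (f : T' ⟶ T) (hU : O'.U = f.left ⁻¹ᵁ O.U) (hV : O'.V = f.left ⁻¹ᵁ O.V)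

include hU hV in
theorem cnd_map {τ : Z ⟶ (Over.map h).obj T'} {u : Γ(Z.left, ⊤)} :
    Cnd O' τ u ↔ Cnd O (τ ≫ (Over.map h).map f) u := by
  unfold Cnd
  rw [hU, hV]
  rfl

/-- The morphism of total spaces. -/
def topE : PE h O' ⟶ PE h O :=
  mkPt (pE h O' ≫ (Over.map h).map f) (cu (𝟙 (PE h O'))) (cv (𝟙 (PE h O')))
    (by rw [pf_map]; simpa using rel (𝟙 (PE h O')))
    (by have := cnd (𝟙 (PE h O')); rw [Category.id_comp, cnd_map f hU hV] at this; exact this)

theorem topE_π : topE f hU hV ≫ pE h O = pE h O' ≫ (Over.map h).map f := mkPt_π ..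

theorem cu_topE (p : Z ⟶ PE h O') : cu (p ≫ topE f hU hV) = cu p := by
  rw [cu_comp, topE, cu_mkPt, ← cu_comp, Category.comp_id]

theorem cv_topE (p : Z ⟶ PE h O') : cv (p ≫ topE f hU hV) = cv p := by
  rw [cv_comp, topE, cv_mkPt, ← cv_comp, Category.comp_id]

theorem topE_eqv : (actE h O').act ≫ topE f hU hV = (Red.Ga S ◁ topE f hU hV) ≫ (actE h O).act := by
  show _ = _ ≫ sh _ _
  rw [comp_sh, whiskerLeft_fst, whiskerLeft_snd]
  refine pt_ext ?_ ?_ ?_
  · rw [Category.assoc, sh_π, Category.assoc, topE_π, ← Category.assoc, act_π, Category.assoc]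
  · rw [cu_topE, cu_sh, cu_topE, Category.assoc, topE_π, ← Category.assoc, pf_map]
    exact cu_sh _ _
  · rw [cv_topE, cv_sh, cv_topE, cu_topE, Category.assoc, topE_π, ← Category.assoc, pf_map]
    exact cv_sh _ _

theorem topE_cart : IsPullback (topE f hU hV) (pE h O') (pE h O) ((Over.map h).map f) := by
  refine IsPullback.of_isLimit (PullbackCone.IsLimit.mk (topE_π f hU hV)
    (fun s => mkPt s.snd (cu s.fst) (cv s.fst) (by rw [← pf_map f, ← s.condition]; exact rel s.fst)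
      (by rw [cnd_map f hU hV, ← s.condition]; exact cnd s.fst))
    (fun s => pt_ext ?_ (by rw [cu_topE, cu_mkPt]) (by rw [cv_topE, cv_mkPt])) (fun s => mkPt_π ..)
    (fun s m hm₁ hm₂ => pt_ext (by rw [mkPt_π, hm₂]) ?_ ?_))
  · rw [Category.assoc, topE_π, ← Category.assoc, mkPt_π, s.condition]
  · rw [cu_mkPt, ← hm₁, cu_topE]
  · rw [cv_mkPt, ← hm₁, cv_topE]

/-- The morphism of torsors. -/
def twMap : tw h O' ⟶ tw h O where
  base := (Over.map h).map f
  top := topE f hU hV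
  eqv := topE_eqv f hU hV
  cart := topE_cart f hU hV
  wφ := toUnit_unique _ _

end ThetaBGa
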