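import Groth.Prelude.Def_AlgSt5
import Groth.Agent.TorsVecLib.Points
import Groth.Agent.GaGmKerLib.GaPts
import Groth.Agent.WittDescLib.Amitsur
import Mathlib.AlgebraicGeometry.Sites.Fpqc

/-!
# A torsor of the additive group over an affine scheme has a section
-/

set_option autoImplicit false
set_option linter.all false
set_option backward.isDefEq.respectTransparency false
set_option backward.isDefEq.respectTransparency.types false

universe u

open CategoryTheory CategoryTheory.Limits MonoidalCategory CartesianMonoidalCategory MonObj AlgebraicGeometry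
open scoped TensorProduct
open Groth.Agent

noncomputable section

namespace ThetaBGa

section Fn

variable {S : Scheme.{u}} {A : Type u} [CommRing A] (j : Spec (CommRingCat.of A) ⟶ S)

/-- The function of a point of the additive group on an affine test scheme. -/
def fnA {C : Type u} [CommRing C] [Algebra A C] (g : TorsVec.testObj j C ⟶ Red.Ga S) : C :=
  (Scheme.ΓSpecIso (CommRingCat.of C)).hom (Red.gaFn g)

theorem fnA_mul {C : Type u} [CommRing C] [Algebra A C] (g g' : TorsVec.testObj j C ⟶ Red.Ga S) :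
    fnA j (g * g') = fnA j g + fnA j g' := by
  unfold fnA
  rw [GaPts.gaFn_mul]
  exact map_add (Scheme.ΓSpecIso (CommRingCat.of C)).hom.hom _ _

theorem fnA_injective {C : Type u} [CommRing C] [Algebra A C] :
    Function.Injective (fnA j : (TorsVec.testObj j C ⟶ Red.Ga S) → C) := fun g g' h =>
  GaPts.gaFn_injective ((Scheme.ΓSpecIso (CommRingCat.of C)).commRingCatIsoToRingEquiv.injective h)

theorem fnA_testMap {C D : Type u} [CommRing C] [Algebra A C] [CommRing D] [Algebra A D] (φ : C →ₐ[A] D)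
    (g : TorsVec.testObj j C ⟶ Red.Ga S) : fnA j (TorsVec.testMap j φ ≫ g) = φ (fnA j g) := by
  unfold fnA
  rw [GaPts.gaFn_comp]
  exact congrArg (fun q => (CommRingCat.Hom.hom q) (Red.gaFn g))
    (Scheme.ΓSpecIso_naturality (CommRingCat.ofHom φ.toRingHom))

theorem fnA_surjective {C : Type u} [CommRing C] [Algebra A C] :
    Function.Surjective (fnA j : (TorsVec.testObj j C ⟶ Red.Ga S) → C) := fun c => by
  obtain ⟨z, hz⟩ := (Scheme.ΓSpecIso (CommRingCat.of C)).commRingCatIsoToRingEquiv.surjective c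
  exact ⟨GaPts.ptOf (T := TorsVec.testObj j C) z,
    (congrArg (Scheme.ΓSpecIso (CommRingCat.of C)).hom (GaPts.gaFn_ptOf (T := TorsVec.testObj j C) z)).trans hz⟩

end Fn

section Cart

variable {S : Scheme.{u}} {G X : Over S} [GrpObj G] {aX : AlgGrp.Action G X} {K : Precoverage Scheme.{u}}
  (A : AlgSt.QuotObj K G aX) {T : Over S}

theorem exists_smul (p q : T ⟶ A.P) (h : p ≫ A.π = q ≫ A.π) : ∃ g : T ⟶ G, TorsVec.smulPt A.act g p = q := by
  refine ⟨A.cart.lift q p h.symm ≫ fst G A.P, ?_⟩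
  have e : lift (A.cart.lift q p h.symm ≫ fst G A.P) p = A.cart.lift q p h.symm := by
    apply CartesianMonoidalCategory.hom_ext
    · rw [lift_fst]
    · rw [lift_snd, A.cart.lift_snd]
  rw [TorsVec.smulPt, e, A.cart.lift_fst]

theorem smul_injective (p : T ⟶ A.P) : Function.Injective fun g : T ⟶ G => TorsVec.smulPt A.act g p := by
  intro g g' hg
  have : lift g p = lift g' p := A.cart.hom_ext hg (by rw [lift_snd, lift_snd])
  simpa using congrArg (· ≫ fst G A.P) this

theorem smul_π (g : T ⟶ G) (p : T ⟶ A.P) : TorsVec.smulPt A.act g p ≫ A.π = p ≫ A.π := by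
  rw [TorsVec.smulPt, Category.assoc, A.cart.w, lift_snd_assoc]

end Cart

variable {S : Scheme.{u}}

/-- A torsor of the additive group over an affine base has a section. -/
theorem exists_section {X : Over S} {aX : AlgGrp.Action (Red.Ga S) X}
    (A : AlgSt.QuotObj Scheme.fppfPrecoverage (Red.Ga S) aX) [IsAffine A.base.left] :
    ∃ σ : A.base ⟶ A.P, σ ≫ A.π = 𝟙 _ := by
  let X' : Over A.base.left := Over.mk A.π.left
  have hloc : NonAbH1.IsLocallyTrivialFor Scheme.fpqcPrecoverage X' := by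
    obtain ⟨R', hR, hs⟩ := A.loc
    exact ⟨R', Scheme.fppfPrecoverage_le_fpqcPrecoverage _ hR, hs⟩
  have hU : IsAffineOpen (⊤ : A.base.left.Opens) := isAffineOpen_top _
  obtain ⟨B, _, _, hB, ⟨p₀⟩⟩ := TorsVec.exists_algebra_point hloc hU
  haveI := hB
  let jT := hU.fromSpec
  let j := jT ≫ A.base.hom
  let c : ∀ (C : Type u) [CommRing C] [Algebra Γ(A.base.left, ⊤) C], TorsVec.testObj j C ⟶ A.base :=
    fun C _ _ => Over.homMk (Spec.map (CommRingCat.ofHom (algebraMap Γ(A.base.left, ⊤) C)) ≫ jT) (Category.assoc _ _ _)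
  have hc : ∀ {C D : Type u} [CommRing C] [Algebra Γ(A.base.left, ⊤) C] [CommRing D] [Algebra Γ(A.base.left, ⊤) D]
      (φ : C →ₐ[Γ(A.base.left, ⊤)] D), TorsVec.testMap j φ ≫ c C = c D := fun φ => by
    ext1
    exact Over.w (TorsVec.testMap jT φ)
  have hp₀ : p₀.left ≫ A.π.left = Spec.map (CommRingCat.ofHom (algebraMap Γ(A.base.left, ⊤) B)) ≫ jT := Over.w p₀
  let p : TorsVec.testObj j B ⟶ A.P := Over.homMk p₀.left (by
    show p₀.left ≫ A.P.hom = Spec.map _ ≫ jT ≫ A.base.hom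
    rw [← Over.w A.π, ← Category.assoc, hp₀, Category.assoc])
  have hp : p ≫ A.π = c B := Over.OverMorphism.ext hp₀
  obtain ⟨g, hg⟩ := exists_smul A (TorsVec.testMap j TorsVec.insL ≫ p) (TorsVec.testMap j TorsVec.insR ≫ p)
    (by rw [Category.assoc, Category.assoc, hp, hc, hc])
  have hcoc : (TorsVec.testMap j TorsVec.ins23 ≫ g) * (TorsVec.testMap j TorsVec.ins12 ≫ g) =
      TorsVec.testMap j TorsVec.ins13 ≫ g := by
    refine smul_injective A (TorsVec.testMap j (TorsVec.ins13.comp TorsVec.insL) ≫ p) ?_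
    have h12 := congrArg (fun z => TorsVec.testMap j (TorsVec.ins12 (A := Γ(A.base.left, ⊤)) (B := B)) ≫ z) hg
    have h23 := congrArg (fun z => TorsVec.testMap j (TorsVec.ins23 (A := Γ(A.base.left, ⊤)) (B := B)) ≫ z) hg
    have h13 := congrArg (fun z => TorsVec.testMap j (TorsVec.ins13 (A := Γ(A.base.left, ⊤)) (B := B)) ≫ z) hg
    simp only [TorsVec.comp_smulPt, TorsVec.testMap_comp_assoc] at h12 h23 h13
    have e1 : (TorsVec.ins12 (A := Γ(A.base.left, ⊤)) (B := B)).comp TorsVec.insL =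
        (TorsVec.ins13 (A := Γ(A.base.left, ⊤)) (B := B)).comp TorsVec.insL := by ext b; rfl
    have e2 : (TorsVec.ins12 (A := Γ(A.base.left, ⊤)) (B := B)).comp TorsVec.insR =
        (TorsVec.ins23 (A := Γ(A.base.left, ⊤)) (B := B)).comp TorsVec.insL := by ext b; rfl
    have e3 : (TorsVec.ins13 (A := Γ(A.base.left, ⊤)) (B := B)).comp TorsVec.insR =
        (TorsVec.ins23 (A := Γ(A.base.left, ⊤)) (B := B)).comp TorsVec.insR := by ext b; rfl
    change TorsVec.smulPt A.act ((TorsVec.testMap j TorsVec.ins23 ≫ g) * (TorsVec.testMap j TorsVec.ins12 ≫ g)) _ =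
      TorsVec.smulPt A.act _ _
    rw [TorsVec.mul_smulPt, ← e1, h12, e2, h23, e1, h13, e3]
  have hc' := congrArg (fnA j) hcoc
  rw [fnA_mul, fnA_testMap, fnA_testMap, fnA_testMap] at hc'
  set cc := fnA j g with hcdef
  let A₀ := Γ(A.base.left, ⊤)
  have hd : (WittDescLib.d1 A₀ B).lTensor A₀ ((1 : A₀) ⊗ₜ[A₀] cc) = 0 := by
    rw [LinearMap.lTensor_tmul, WittDescLib.d1_apply]
    have : WittDescLib.g12 A₀ B cc + WittDescLib.g23 A₀ B cc - WittDescLib.g13 A₀ B cc = 0 := by
      rw [sub_eq_zero, add_comm]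
      exact hc'
    rw [this, TensorProduct.tmul_zero]
  obtain ⟨y, hy⟩ := (WittDescLib.amitsur_exact A₀ B A₀ _).1 hd
  obtain ⟨f, rfl⟩ : ∃ f : B, (1 : A₀) ⊗ₜ[A₀] f = y :=
    ⟨TensorProduct.lid A₀ B y, (TensorProduct.lid A₀ B).symm_apply_apply y⟩
  rw [LinearMap.lTensor_tmul] at hy
  have hcf : WittDescLib.d0 A₀ B f = cc := by simpa using congrArg (TensorProduct.lid A₀ (B ⊗[A₀] B)) hy
  rw [WittDescLib.d0_apply] at hcf
  obtain ⟨q, hq⟩ := fnA_surjective j (-f)
  have heq : TorsVec.testMap j (TorsVec.insL (A := A₀) (B := B)) ≫ TorsVec.smulPt A.act q p =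
      TorsVec.testMap j TorsVec.insR ≫ TorsVec.smulPt A.act q p := by
    rw [TorsVec.comp_smulPt, TorsVec.comp_smulPt, ← hg, ← TorsVec.mul_smulPt]
    congr 1
    refine fnA_injective j ?_
    rw [fnA_mul, fnA_testMap, fnA_testMap, hq, ← hcdef, ← hcf]
    rw [map_neg, map_neg]
    show -(f ⊗ₜ[A₀] (1 : B)) = -((1 : B) ⊗ₜ[A₀] f) + ((1 : B) ⊗ₜ[A₀] f - f ⊗ₜ[A₀] (1 : B))
    abel
  let p' : TorsVec.testObj jT B ⟶ X' := Over.homMk (TorsVec.smulPt A.act q p).left (by
    show (TorsVec.smulPt A.act q p).left ≫ A.π.left = _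
    rw [← Over.comp_left, smul_π, hp]
    rfl)
  obtain ⟨s, hs⟩ := TorsVec.exists_descend jT p' (Over.OverMorphism.ext
    (congrArg (fun m : TorsVec.testObj j (B ⊗[A₀] B) ⟶ A.P => m.left) heq))
  let σ₀ : A.base.left ⟶ A.P.left := (Scheme.topIso A.base.left).inv ≫ hU.isoSpec.hom ≫ s
  have hσ₀ : σ₀ ≫ A.π.left = 𝟙 _ := by
    change ((Scheme.topIso A.base.left).inv ≫ hU.isoSpec.hom ≫ s) ≫ X'.hom = _
    simp only [Category.assoc, hs, jT, IsAffineOpen.isoSpec_hom, IsAffineOpen.toSpecΓ_fromSpec]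
    simp
  refine ⟨Over.homMk σ₀ ?_, Over.OverMorphism.ext hσ₀⟩
  rw [← Over.w A.π, reassoc_of% hσ₀]

end ThetaBGa
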