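import Groth.Agent.ThetaBGaLib.Opens
import Groth.Agent.ThetaBGaLib.Twist
import Groth.Agent.ThetaBGaLib.Section
import Groth.Agent.LiftAffLib.Theta
import Groth.Prelude.Def_ThetaS
import Mathlib.Algebra.Polynomial.Laurent
import Mathlib.RingTheory.Localization.FractionRing

/-!
# The classifying stack of the additive group is not S-complete
-/

set_option autoImplicit false
set_option linter.all false
set_option backward.isDefEq.respectTransparency false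
set_option backward.isDefEq.respectTransparency.types false
set_option maxHeartbeats 1000000

universe u

open CategoryTheory CategoryTheory.Limits MonoidalCategory CartesianMonoidalCategory AlgebraicGeometry Opposite
open LaurentPolynomial
open scoped LaurentPolynomial

noncomputable section

namespace ThetaBGa

local notation "𝕜" => Scheme.fppfPrecoverage

section Laurent

variable {R R' : Type u} [CommRing R] [CommRing R']

variable (R') in
/-- The units `T n`. -/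
def Tu : Multiplicative ℤ →* (R'[T;T⁻¹])ˣ :=
  MonoidHom.toHomUnits
    { toFun := fun n => T (Multiplicative.toAdd n)
      map_one' := T_zero
      map_mul' := fun a b => T_add _ _ }

/-- A unit constant times a monomial. -/
def wu (c : R'ˣ) (e : ℤ) : (R'[T;T⁻¹])ˣ :=
  Units.map (C : R' →+* R'[T;T⁻¹]).toMonoidHom c * Tu R' (Multiplicative.ofAdd e)

theorem val_wu_zpow (c : R'ˣ) (e n : ℤ) :
    ((wu c e ^ n : (R'[T;T⁻¹])ˣ) : R'[T;T⁻¹]) = C ((c ^ n : R'ˣ) : R') * T (n * e) := by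
  rw [wu, mul_zpow, ← map_zpow, ← map_zpow, ← ofAdd_zsmul, Units.val_mul]
  rfl

/-- The substitution. -/
def subst (φ : R →+* R') (c : R'ˣ) (e : ℤ) : R[T;T⁻¹] →+* R'[T;T⁻¹] :=
  eval₂ (C.comp φ) (wu c e)

theorem subst_C_mul_T (φ : R →+* R') (c : R'ˣ) (e : ℤ) (a : R) (n : ℤ) :
    subst φ c e (C a * T n) = C (φ a * ((c ^ n : R'ˣ) : R')) * T (n * e) := by
  rw [subst, eval₂_C_mul_T, val_wu_zpow, RingHom.comp_apply, ← mul_assoc, ← map_mul]

theorem subst_T (φ : R →+* R') (c : R'ˣ) (e : ℤ) (n : ℤ) :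
    subst φ c e (T n) = C ((c ^ n : R'ˣ) : R') * T (n * e) := by
  simpa using subst_C_mul_T φ c e 1 n

theorem subst_C (φ : R →+* R') (c : R'ˣ) (e : ℤ) (a : R) : subst φ c e (C a) = C (φ a) :=
  eval₂_C _ _ _

theorem coeff_C_mul_T {A : Type u} [CommRing A] (a : A) (n m : ℤ) :
    (C a * T n : A[T;T⁻¹]).coeff m = if n = m then a else 0 := by
  rw [← single_eq_C_mul_T, AddMonoidAlgebra.coeff_single, Finsupp.single_apply]

theorem coeff_subst (φ : R →+* R') (c : R'ˣ) {e : ℤ} (he : e ≠ 0) (f : R[T;T⁻¹]) :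
    (subst φ c e f).coeff 0 = φ (f.coeff 0) := by
  induction f using LaurentPolynomial.induction_on' with
  | add p q hp hq => simp [hp, hq]
  | C_mul_T n a =>
    rw [subst_C_mul_T, coeff_C_mul_T, coeff_C_mul_T]
    rcases eq_or_ne n 0 with rfl | hn
    · simp
    · rw [if_neg (mul_ne_zero hn he), if_neg hn, map_zero]

theorem coeff_add_one (f : R[T;T⁻¹]) : (f + 1).coeff 0 = f.coeff 0 + 1 := by
  rw [AddMonoidAlgebra.coeff_add, Finsupp.add_apply, ← T_zero, T_apply, if_pos rfl]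

variable [IsDomain R] {π : R}

theorem dvd_coeff (hπ : Prime π) (u v : R[T;T⁻¹]) (hrel : algebraMap R R[T;T⁻¹] π * v = u * (u + 1))
    (hc : ∀ z : PrimeSpectrum R[T;T⁻¹], algebraMap R R[T;T⁻¹] π ∈ z.asIdeal → u + 1 ∉ z.asIdeal) :
    π ∣ u.coeff 0 := by
  haveI : (Ideal.span {π}).IsPrime := (Ideal.span_singleton_prime hπ.ne_zero).2 hπ
  let φ : R →+* R ⧸ Ideal.span {π} := Ideal.Quotient.mk _
  let ψ := subst φ (1 : (R ⧸ Ideal.span {π})ˣ) 1
  have hπ0 : ψ (algebraMap R R[T;T⁻¹] π) = 0 := by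
    rw [← C_eq_algebraMap, subst_C, show φ π = 0 from Ideal.Quotient.eq_zero_iff_mem.2 (Ideal.mem_span_singleton_self π),
      map_zero]
  haveI : NoZeroDivisors ((R ⧸ Ideal.span {π})[T;T⁻¹]) := inferInstance
  haveI : IsDomain ((R ⧸ Ideal.span {π})[T;T⁻¹]) := NoZeroDivisors.to_isDomain _
  have h2 : ψ u * (ψ u + 1) = 0 := by rw [← map_one ψ, ← map_add, ← map_mul, ← hrel, map_mul, hπ0, zero_mul]
  have h1 : ψ u + 1 ≠ 0 := fun he => hc ⟨RingHom.ker ψ, RingHom.ker_isPrime ψ⟩ hπ0 (by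
    show ψ (u + 1) = 0
    rw [map_add, map_one, he])
  have h0 := (mul_eq_zero.1 h2).resolve_right h1
  rw [← Ideal.mem_span_singleton, ← Ideal.Quotient.eq_zero_iff_mem]
  show φ (u.coeff 0) = 0
  rw [← coeff_subst φ 1 one_ne_zero, show subst φ 1 1 u = ψ u from rfl, h0]
  rfl

theorem dvd_coeff_add_one (hπ : Prime π) (u v : R[T;T⁻¹]) (hrel : algebraMap R R[T;T⁻¹] π * v = u * (u + 1))
    (hc : ∀ z : PrimeSpectrum R[T;T⁻¹], algebraMap R R[T;T⁻¹] π ∈ z.asIdeal → u ∉ z.asIdeal) :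
    π ∣ u.coeff 0 + 1 := by
  have := dvd_coeff hπ (-(u + 1)) v (by linear_combination hrel) fun z hz h => hc z hz (by
    rw [show u = -(-(u + 1) + 1) by ring]; exact neg_mem h)
  rw [AddMonoidAlgebra.coeff_neg, Finsupp.neg_apply, coeff_add_one, dvd_neg] at this
  exact this

end Laurent

variable {R : Type u} [CommRing R] [IsDomain R] {π : R} (hπ : Prime π) {S : Scheme.{u}}
  (h : Spec (CommRingCat.of R) ⟶ S)

include hπ in
theorem inv_s : Inv (ThetaS.stAction R π) (ThetaS.stFn (ThetaS.sFn R π)) := (LiftAffLib.semiReg_st hπ).invA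

include hπ in
theorem inv_t : Inv (ThetaS.stAction R π) (ThetaS.stFn (ThetaS.tFn R π)) := (LiftAffLib.semiReg_st hπ).invB

theorem basicOpen_st :
    (ThetaS.STSch R π).left.basicOpen (ThetaS.stFn (ThetaS.sFn R π)) ⊓
        (ThetaS.STSch R π).left.basicOpen (ThetaS.stFn (ThetaS.tFn R π)) =
      (ThetaS.STSch R π).hom ⁻¹ᵁ
        (Spec (CommRingCat.of R)).basicOpen ((Scheme.ΓSpecIso (CommRingCat.of R)).inv π) := by
  rw [← Scheme.basicOpen_mul, LiftAffLib.preimage_bo]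
  congr 1
  refine (map_mul (Scheme.ΓSpecIso (CommRingCat.of (ThetaS.STRing R π))).inv.hom _ _).symm.trans ?_
  rw [ThetaS.sFn_mul_tFn]
  exact ConcreteCategory.congr_hom
    (Scheme.ΓSpecIso_inv_naturality (CommRingCat.ofHom (algebraMap R (ThetaS.STRing R π)))) π

/-- The two branches of an object away from the node. -/
def brOf (A : (ThetaS.STR 𝕜 R π).obj) (hA : ThetaS.MissesNode A) : Br π A.base where
  U := Tc A (ThetaS.stFn (ThetaS.sFn R π))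
  V := Tc A (ThetaS.stFn (ThetaS.tFn R π))
  cov := Tc_sup A (inv_s hπ) (inv_t hπ) hA
  inf := (Tc_inf A (inv_s hπ) (inv_t hπ) _ basicOpen_st).trans (LiftAffLib.preimage_bo _ _)

theorem topE_ext {T T' : Over (Spec (CommRingCat.of R))} {O : Br π T} {O' : Br π T'} {f : T' ⟶ T}
    {hU : O'.U = f.left ⁻¹ᵁ O.U} {hV : O'.V = f.left ⁻¹ᵁ O.V} (m : PE h O' ⟶ PE h O)
    (h₁ : m ≫ pE h O = pE h O' ≫ (Over.map h).map f) (h₂ : cu m = cu (𝟙 (PE h O')))
    (h₃ : cv m = cv (𝟙 (PE h O'))) : topE f hU hV = m :=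
  pt_ext ((topE_π f hU hV).trans h₁.symm) ((cu_mkPt ..).trans h₂.symm) ((cv_mkPt ..).trans h₃.symm)

theorem cu_topE' {T T' : Over (Spec (CommRingCat.of R))} {O : Br π T} {O' : Br π T'} {f : T' ⟶ T}
    {hU : O'.U = f.left ⁻¹ᵁ O.U} {hV : O'.V = f.left ⁻¹ᵁ O.V} {Z : Over S} (p : Z ⟶ PE h O') :
    cu (p ≫ topE f hU hV) = cu p := cu_topE f hU hV p

theorem cv_topE' {T T' : Over (Spec (CommRingCat.of R))} {O : Br π T} {O' : Br π T'} {f : T' ⟶ T}
    {hU : O'.U = f.left ⁻¹ᵁ O.U} {hV : O'.V = f.left ⁻¹ᵁ O.V} {Z : Over S} (p : Z ⟶ PE h O') :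
    cv (p ≫ topE f hU hV) = cv p := cv_topE f hU hV p

theorem cu_topE_self {T T' : Over (Spec (CommRingCat.of R))} {O : Br π T} {O' : Br π T'} (f : T' ⟶ T)
    (hU : O'.U = f.left ⁻¹ᵁ O.U) (hV : O'.V = f.left ⁻¹ᵁ O.V) :
    cu (topE (h := h) f hU hV) = cu (𝟙 (PE h O')) ∧ cv (topE (h := h) f hU hV) = cv (𝟙 (PE h O')) :=
  ⟨cu_mkPt .., cv_mkPt ..⟩

/-- The functor on the punctured stack. -/
def topF : ThetaS.stPunc 𝕜 R π h ⥤ᵇ AlgSt.BG 𝕜 (Red.Ga S) where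
  toFunctor :=
    { obj := fun A => tw h (brOf hπ A.obj A.property)
      map := fun {A B} k => twMap (O := brOf hπ B.obj B.property) (O' := brOf hπ A.obj A.property) k.hom.base
        (Tc_hom k.hom (inv_s hπ)) (Tc_hom k.hom (inv_t hπ))
      map_id := fun A => by
        refine AlgSt.QuotObj.hom_ext ((Over.map h).map_id _) (topE_ext h (hU := Tc_hom (𝟙 A : A ⟶ A).hom (inv_s hπ)) (hV := Tc_hom (𝟙 A : A ⟶ A).hom (inv_t hπ)) _ ?_ rfl rfl)
        exact ((Category.id_comp _).trans (Category.comp_id _).symm).trans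
          (congrArg (pE h _ ≫ ·) ((Over.map h).map_id _).symm)
      map_comp := fun {A B D} k l => by
        refine AlgSt.QuotObj.hom_ext ((Over.map h).map_comp _ _) (topE_ext h (hU := Tc_hom (k ≫ l).hom (inv_s hπ)) (hV := Tc_hom (k ≫ l).hom (inv_t hπ)) _ ?_ ?_ ?_)
        · show (topE k.hom.base (Tc_hom k.hom (inv_s hπ)) (Tc_hom k.hom (inv_t hπ)) ≫
            topE l.hom.base (Tc_hom l.hom (inv_s hπ)) (Tc_hom l.hom (inv_t hπ))) ≫ pE h _ = pE h _ ≫ (Over.map h).map (k.hom.base ≫ l.hom.base)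
          rw [Category.assoc, topE_π, ← Category.assoc, topE_π, Category.assoc, Functor.map_comp]
        · exact (cu_topE' h (hU := Tc_hom l.hom (inv_s hπ)) (hV := Tc_hom l.hom (inv_t hπ)) _).trans (cu_topE_self h k.hom.base (Tc_hom k.hom (inv_s hπ)) (Tc_hom k.hom (inv_t hπ))).1
        · exact (cv_topE' h (hU := Tc_hom l.hom (inv_s hπ)) (hV := Tc_hom l.hom (inv_t hπ)) _).trans (cu_topE_self h k.hom.base (Tc_hom k.hom (inv_s hπ)) (Tc_hom k.hom (inv_t hπ))).2 }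
  w := rfl

/-- The square. -/
def sq : LiftSq.Sq (ThetaS.stIncl 𝕜 R π h) (FibCat.toSelf (AlgSt.BG 𝕜 (Red.Ga S))) where
  top := topF hπ h
  bot := FibCat.toSelf (ThetaS.ST 𝕜 R π h)
  iso := Iso.refl _

section Sec

variable {X : Over S} {G : Over S} [GrpObj G] {aX : AlgGrp.Action G X}
  {Q Q' Tgt : AlgSt.QuotObj 𝕜 G aX} {σ : Tgt.base ⟶ Tgt.P} (hσ : σ ≫ Tgt.π = 𝟙 _)

/-- The section pulled back along an arrow. -/
def sec (n : Q ⟶ Tgt) : Q.base ⟶ Q.P :=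
  n.cart.lift (n.base ≫ σ) (𝟙 _) (by rw [Category.assoc, hσ, Category.comp_id, Category.id_comp])

theorem sec_π (n : Q ⟶ Tgt) : sec hσ n ≫ Q.π = 𝟙 _ := n.cart.lift_snd _ _ _

theorem sec_compat (g : Q' ⟶ Q) (n : Q ⟶ Tgt) (n' : Q' ⟶ Tgt) (hn : g ≫ n = n') :
    sec hσ n' ≫ g.top = g.base ≫ sec hσ n := by
  subst hn
  refine n.cart.hom_ext ?_ ?_
  · rw [Category.assoc, Category.assoc, sec, sec, ← AlgSt.QuotObj.comp_top, IsPullback.lift_fst, IsPullback.lift_fst,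
      AlgSt.QuotObj.comp_base, Category.assoc]
  · rw [Category.assoc, Category.assoc, g.cart.w, sec_π, ← Category.assoc, sec_π, Category.id_comp, Category.comp_id]

end Sec

section Spec

theorem ev_inv_ne {A : Type u} [CommRing A] (z : PrimeSpectrum A) (f : A) :
    ev (Z := Spec (CommRingCat.of A)) z ((Scheme.ΓSpecIso (CommRingCat.of A)).inv f) ≠ 0 ↔ f ∉ z.asIdeal := by
  rw [ev_ne, basicOpen_eq_of_affine]
  rfl

variable {A : Type u} [CommRing A] [Algebra R A]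

theorem basicOpen_pt (φ : ThetaS.STRing R π →ₐ[R] A) (q : ThetaS.STRing R π) :
    (CoactBr.pt φ).left ⁻¹ᵁ (ThetaS.STSch R π).left.basicOpen (ThetaS.stFn q) =
      (Spec (CommRingCat.of A)).basicOpen ((Scheme.ΓSpecIso (CommRingCat.of A)).inv (φ q)) := by
  rw [LiftAffLib.preimage_bo, LiftAffLib.pt_appTop]
  rfl

theorem piFn_sp : piFn π (CoactBr.sp R A) = (Scheme.ΓSpecIso (CommRingCat.of A)).inv (algebraMap R A π) :=
  (ConcreteCategory.congr_hom (Scheme.ΓSpecIso_inv_naturality (CommRingCat.ofHom (algebraMap R A))) π).symm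

theorem preimage_top_of_isUnit (φ : ThetaS.STRing R π →ₐ[R] A) (q : ThetaS.STRing R π) (hq : IsUnit (φ q)) :
    (CoactBr.pt φ).left ⁻¹ᵁ (ThetaS.STSch R π).left.basicOpen (ThetaS.stFn q) = ⊤ := by
  rw [basicOpen_pt]
  exact Scheme.basicOpen_of_isUnit _ (hq.map (Scheme.ΓSpecIso (CommRingCat.of A)).inv.hom)

/-- The coordinates of a section over an affine scheme. -/
theorem exists_coords (O : Br π (CoactBr.sp R A)) (s : (Over.map h).obj (CoactBr.sp R A) ⟶ PE h O)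
    (hs : s ≫ pE h O = 𝟙 _) :
    ∃ u v : A, (Scheme.ΓSpecIso (CommRingCat.of A)).inv u = cu s ∧ algebraMap R A π * v = u * (u + 1) ∧
      ∀ z : PrimeSpectrum A, algebraMap R A π ∈ z.asIdeal →
        (O.U = ⊤ → u + 1 ∉ z.asIdeal) ∧ (O.V = ⊤ → u ∉ z.asIdeal) := by
  let ι := (Scheme.ΓSpecIso (CommRingCat.of A)).inv.hom
  let e := (Scheme.ΓSpecIso (CommRingCat.of A)).commRingCatIsoToRingEquiv
  obtain ⟨u, hu⟩ : ∃ u : A, ι u = cu s := ⟨e (cu s), e.symm_apply_apply _⟩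
  obtain ⟨v, hv⟩ : ∃ v : A, ι v = cv s := ⟨e (cv s), e.symm_apply_apply _⟩
  have hpf : pf π (𝟙 ((Over.map h).obj (CoactBr.sp R A))) = ι (algebraMap R A π) := piFn_sp
  refine ⟨u, v, hu, e.symm.injective ?_, fun z hz => ?_⟩
  · show ι (algebraMap R A π * v) = ι (u * (u + 1))
    have := rel s
    rw [hs, hpf, ← hu, ← hv, ← map_one ι, ← map_mul ι, ← map_add ι, ← map_mul ι] at this
    exact this
  · have hn : ¬((z : Spec (CommRingCat.of A)) ∈ O.U ∧ (z : Spec (CommRingCat.of A)) ∈ O.V) := fun hh => by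
      have := (mem_UV O (𝟙 ((Over.map h).obj (CoactBr.sp R A))) z).1 hh
      rw [hpf] at this
      exact (ev_inv_ne z _).1 this hz
    have hc := cnd s z
    rw [hs, ← hu, ← map_one ι, ← map_add ι] at hc
    rcases hc with ⟨m, a⟩ | ⟨m, a⟩
    · exact ⟨fun _ => (ev_inv_ne z _).1 a, fun hV => (hn ⟨m, hV ▸ trivial⟩).elim⟩
    · exact ⟨fun hU => (hn ⟨hU ▸ trivial, m⟩).elim, fun _ => (ev_inv_ne z _).1 a⟩

end Spec

theorem not_hasLift : ¬ (sq hπ h).HasLift := by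
  rintro ⟨d⟩
  let X := ThetaS.STSch R π
  let aX := ThetaS.stAction R π
  let K := FractionRing R
  let L := R[T;T⁻¹]
  let L₃ := K[T;T⁻¹]
  let φK : R →+* K := algebraMap R K
  let πK : Kˣ := Units.mk0 (φK π) (by
    simpa [φK] using (map_ne_zero_iff φK (IsFractionRing.injective R K)).2 hπ.ne_zero)
  let ψ₁ : L →ₐ[R] L₃ := { subst φK 1 1 with commutes' := fun r => subst_C φK 1 1 r }
  let ψ₂ : L →ₐ[R] L₃ := { subst φK πK (-1) with commutes' := fun r => subst_C φK πK (-1) r }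
  have hab₁ : (T 1 : L) * (C π * T (-1)) = algebraMap R L π := by
    rw [mul_left_comm, ← T_add, add_neg_cancel, T_zero, mul_one, C_eq_algebraMap]
  have hab₂ : (C π * T (-1) : L) * T 1 = algebraMap R L π := (mul_comm _ _).trans hab₁
  let φ₁ := ThetaS.stPt (T 1 : L) (C π * T (-1)) hab₁
  let φ₂ := ThetaS.stPt (C π * T (-1) : L) (T 1) hab₂
  have hψ : ψ₁.comp φ₁ = ψ₂.comp φ₂ := by
    apply ThetaS.stRing_algHom_ext
    · show subst φK 1 1 (φ₁ (ThetaS.sFn R π)) = subst φK πK (-1) (φ₂ (ThetaS.sFn R π))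
      rw [ThetaS.stPt_sFn, ThetaS.stPt_sFn, subst_T, subst_C_mul_T]
      simp [πK, φK, mul_inv_cancel₀ ((map_ne_zero_iff _ (IsFractionRing.injective R K)).2 hπ.ne_zero)]
    · show subst φK 1 1 (φ₁ (ThetaS.tFn R π)) = subst φK πK (-1) (φ₂ (ThetaS.tFn R π))
      rw [ThetaS.stPt_tFn, ThetaS.stPt_tFn, subst_T, subst_C_mul_T]
      simp [πK]
  let x₁ : CoactBr.sp R L ⟶ X := CoactBr.pt φ₁
  let x₂ : CoactBr.sp R L ⟶ X := CoactBr.pt φ₂
  let x₃ : CoactBr.sp R L₃ ⟶ X := CoactBr.pt (ψ₁.comp φ₁)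
  have e₁ : CoactBr.pt ψ₁ ≫ x₁ = x₃ := (CoactBr.pt_comp _ _).symm
  have e₂ : CoactBr.pt ψ₂ ≫ x₂ = x₃ := ((CoactBr.pt_comp _ _).symm).trans (congrArg CoactBr.pt hψ.symm)
  have hsR := LiftAffLib.semiReg_st hπ
  have hT : IsUnit (T 1 : L) :=
    isUnit_iff_exists_inv.2 ⟨T (-1), by rw [← T_add, add_neg_cancel, T_zero]⟩
  have t₁ := preimage_top_of_isUnit φ₁ (ThetaS.sFn R π) (by rw [ThetaS.stPt_sFn]; exact hT)
  have t₂ := preimage_top_of_isUnit φ₂ (ThetaS.tFn R π) (by rw [ThetaS.stPt_tFn]; exact hT)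
  have t₃ := preimage_top_of_isUnit (ψ₁.comp φ₁) (ThetaS.sFn R π)
    (by rw [AlgHom.comp_apply, ThetaS.stPt_sFn]; exact hT.map ψ₁)
  let A₁ : (ThetaS.stPunc 𝕜 R π h).obj := ⟨LiftAffLib.tr aX x₁, LiftAffLib.punct_tr hsR x₁ (by rw [t₁, top_sup_eq])⟩
  let A₂ : (ThetaS.stPunc 𝕜 R π h).obj := ⟨LiftAffLib.tr aX x₂, LiftAffLib.punct_tr hsR x₂ (by rw [t₂, sup_top_eq])⟩
  let A₃ : (ThetaS.stPunc 𝕜 R π h).obj := ⟨LiftAffLib.tr aX x₃, LiftAffLib.punct_tr hsR x₃ (by rw [t₃, top_sup_eq])⟩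
  let k₁ : A₃ ⟶ A₁ := ObjectProperty.homMk (LiftAffLib.tmap (CoactBr.pt ψ₁) x₁ x₃ e₁)
  let k₂ : A₃ ⟶ A₂ := ObjectProperty.homMk (LiftAffLib.tmap (CoactBr.pt ψ₂) x₂ x₃ e₂)
  let m₁ : A₁.obj ⟶ LiftAffLib.u₀ aX := LiftAffLib.can x₁
  let m₂ : A₂.obj ⟶ LiftAffLib.u₀ aX := LiftAffLib.can x₂
  let m₃ : A₃.obj ⟶ LiftAffLib.u₀ aX := LiftAffLib.can x₃
  have km : ∀ {A B : Type u} [CommRing A] [Algebra R A] [CommRing B] [Algebra R B] (t : CoactBr.sp R B ⟶ CoactBr.sp R A)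
      (x : CoactBr.sp R A ⟶ X) (x' : CoactBr.sp R B ⟶ X) (e : t ≫ x = x'),
      LiftAffLib.tmap (aX := aX) t x x' e ≫ LiftAffLib.can x = LiftAffLib.can x' := fun t x x' e => by
    apply LiftAffLib.pt_inj
    rw [LiftAffLib.pt_tmap_hom, LiftAffLib.pt_hom, comp_lift, MonObj.comp_one, e]
  let n : ∀ (A : (ThetaS.stPunc 𝕜 R π h).obj) (m : A.obj ⟶ LiftAffLib.u₀ aX),
      (topF hπ h).obj A ⟶ d.fn.obj (LiftAffLib.u₀ aX) := fun A m => d.isoTop.inv.toNatTrans.app A ≫ d.fn.map m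
  have hn : ∀ {A B : (ThetaS.stPunc 𝕜 R π h).obj} (k : A ⟶ B) (m : B.obj ⟶ LiftAffLib.u₀ aX)
      (m' : A.obj ⟶ LiftAffLib.u₀ aX), k.hom ≫ m = m' → (topF hπ h).map k ≫ n B m = n A m' := fun {A B} k m m' e => by
    subst e
    show _ ≫ d.isoTop.inv.toNatTrans.app B ≫ _ = d.isoTop.inv.toNatTrans.app A ≫ d.fn.map (k.hom ≫ m)
    rw [Functor.map_comp, ← Category.assoc]
    exact ((congrArg (· ≫ d.fn.map m) (d.isoTop.inv.toNatTrans.naturality k))).trans (Category.assoc _ _ _)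
  haveI : IsAffine (d.fn.obj (LiftAffLib.u₀ aX)).base.left := by
    rw [show (d.fn.obj (LiftAffLib.u₀ aX)).base = (Over.map h).obj X from d.fn.w_obj _]
    exact inferInstanceAs (IsAffine (Spec (CommRingCat.of (ThetaS.STRing R π))))
  obtain ⟨σ, hσ⟩ := exists_section (d.fn.obj (LiftAffLib.u₀ aX))
  let s₁ := sec hσ (n A₁ m₁)
  let s₂ := sec hσ (n A₂ m₂)
  let s₃ := sec hσ (n A₃ m₃)
  obtain ⟨u₁, v₁, hu₁, hr₁, hc₁⟩ := exists_coords h (brOf hπ A₁.obj A₁.property) s₁ (sec_π hσ (n A₁ m₁))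
  obtain ⟨u₂, v₂, hu₂, hr₂, hc₂⟩ := exists_coords h (brOf hπ A₂.obj A₂.property) s₂ (sec_π hσ (n A₂ m₂))
  have d₁ := dvd_coeff hπ u₁ v₁ hr₁ fun z hz => (hc₁ z hz).1 ((Tc_triv (inv_s hπ) x₁).trans t₁)
  have d₂ := dvd_coeff_add_one hπ u₂ v₂ hr₂ fun z hz => (hc₂ z hz).2 ((Tc_triv (inv_t hπ) x₂).trans t₂)
  have key : ∀ {A : (ThetaS.stPunc 𝕜 R π h).obj} (k : A₃ ⟶ A) (m : A.obj ⟶ LiftAffLib.u₀ aX), k.hom ≫ m = m₃ →
      cu s₃ = ((Over.map h).map k.hom.base).left.appTop (cu (sec hσ (n A m))) := fun {A} k m e => by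
    refine Eq.trans ?_ (cu_comp ((Over.map h).map k.hom.base) (sec hσ (n A m)))
    refine Eq.trans ?_ (congrArg cu (sec_compat hσ ((topF hπ h).map k) (n A m) (n A₃ m₃) (hn k m m₃ e)))
    exact (cu_topE' h (hU := Tc_hom k.hom (inv_s hπ)) (hV := Tc_hom k.hom (inv_t hπ)) s₃).symm
  have g₁ := key k₁ m₁ (km _ _ _ e₁)
  have g₂ := key k₂ m₂ (km _ _ _ e₂)
  have nat : ∀ (ψ : L →ₐ[R] L₃) (a : L), (CoactBr.pt ψ).left.appTop ((Scheme.ΓSpecIso (CommRingCat.of L)).inv a) =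
      (Scheme.ΓSpecIso (CommRingCat.of L₃)).inv (ψ a) := fun ψ a => LiftAffLib.pt_appTop ψ a
  have b₁ : k₁.hom.base = CoactBr.pt ψ₁ := LiftAffLib.base_tmap _ e₁
  have b₂ : k₂.hom.base = CoactBr.pt ψ₂ := LiftAffLib.base_tmap _ e₂
  rw [b₁] at g₁
  rw [b₂] at g₂
  have f₁ : cu s₃ = (Scheme.ΓSpecIso (CommRingCat.of L₃)).inv (ψ₁ u₁) :=
    g₁.trans (((congrArg (fun a => (CoactBr.pt ψ₁).left.appTop a) hu₁).symm).trans (nat ψ₁ u₁))
  have f₂ : cu s₃ = (Scheme.ΓSpecIso (CommRingCat.of L₃)).inv (ψ₂ u₂) :=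
    g₂.trans (((congrArg (fun a => (CoactBr.pt ψ₂).left.appTop a) hu₂).symm).trans (nat ψ₂ u₂))
  have eψ : ψ₁ u₁ = ψ₂ u₂ :=
    (Scheme.ΓSpecIso (CommRingCat.of L₃)).commRingCatIsoToRingEquiv.symm.injective (f₁.symm.trans f₂)
  have e0 : u₁.coeff 0 = u₂.coeff 0 := IsFractionRing.injective R K (by
    have := congrArg (fun f : L₃ => f.coeff 0) eψ
    exact ((coeff_subst φK 1 one_ne_zero u₁).symm.trans this).trans (coeff_subst φK πK (by norm_num) u₂))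
  rw [e0] at d₁
  exact hπ.not_dvd_one ((dvd_add_right d₁).1 d₂)

end ThetaBGa
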