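import Groth.Agent.QuotStLib.Torsor
import Groth.Agent.LiftAffLib.Quot

/-!
# The opens of the base of a quotient-stack object cut out by a semi-invariant function
-/

set_option autoImplicit false
set_option linter.all false
set_option backward.isDefEq.respectTransparency false
set_option backward.isDefEq.respectTransparency.types false

universe u

open CategoryTheory CategoryTheory.Limits MonoidalCategory CartesianMonoidalCategory MonObj GrpObj AlgebraicGeometry

noncomputable section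

namespace ThetaBGa

variable {S : Scheme.{u}} {G X : Over S} [GrpObj G] {aX : AlgGrp.Action G X}

local notation "𝕜" => Scheme.fppfPrecoverage

variable (A : AlgSt.QuotObj 𝕜 G aX)

theorem surjective_π (z : A.base.left) : ∃ p : A.P.left, A.π.left p = z := by
  obtain ⟨V, v, σ, hσ, -, -, hv₃⟩ := QuotStLib.exists_sections A
  obtain ⟨q, hq⟩ := hv₃ z
  refine ⟨(σ z).left q, ?_⟩
  rw [← Scheme.Hom.comp_apply, ← Over.comp_left, hσ, hq]

theorem opens_ext {U V : A.base.left.Opens} (h : ∀ p, A.π.left p ∈ U ↔ A.π.left p ∈ V) : U = V := by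
  ext z
  obtain ⟨p, rfl⟩ := surjective_π A z
  exact h p

/-- The function's non-vanishing locus is invariant under the group. -/
def Inv (aX : AlgGrp.Action G X) (c : Γ(X.left, ⊤)) : Prop :=
  (G ⊗ X).left.basicOpen (aX.act.left.appTop c) = (G ⊗ X).left.basicOpen ((snd G X).left.appTop c)

variable {c : Γ(X.left, ⊤)}

theorem mem_iff_of_π_eq (hc : Inv aX c) {p q : A.P.left} (h : A.π.left p = A.π.left q) :
    A.φ.left p ∈ X.left.basicOpen c ↔ A.φ.left q ∈ X.left.basicOpen c := by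
  have sq : IsPullback A.act.act.left (snd G A.P).left A.π.left A.π.left := by
    simpa using A.cart.map (Over.forget S)
  obtain ⟨z, hz₁, hz₂⟩ := Scheme.exists_preimage_of_isPullback sq p q h
  have e : (A.act.act ≫ A.φ).left ⁻¹ᵁ X.left.basicOpen c = (snd G A.P ≫ A.φ).left ⁻¹ᵁ X.left.basicOpen c := by
    rw [A.eqv, ← whiskerLeft_snd, Over.comp_left, Over.comp_left, Scheme.Hom.comp_preimage,
      Scheme.Hom.comp_preimage, LiftAffLib.preimage_bo aX.act.left c, hc, ← LiftAffLib.preimage_bo]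
  have := SetLike.ext_iff.1 e z
  rw [← hz₁, ← hz₂]
  exact this

/-- The open of the base under the non-vanishing locus. -/
def Tc (c : Γ(X.left, ⊤)) : A.base.left.Opens :=
  ⟨interior (A.π.left '' (A.φ.left ⁻¹ᵁ X.left.basicOpen c : A.P.left.Opens)), isOpen_interior⟩

theorem mem_Tc (hc : Inv aX c) (p : A.P.left) :
    A.π.left p ∈ Tc A c ↔ A.φ.left p ∈ X.left.basicOpen c := by
  let D : A.P.left.Opens := A.φ.left ⁻¹ᵁ X.left.basicOpen c
  have sat : ∀ q, A.π.left q ∈ A.π.left '' (D : Set A.P.left) ↔ q ∈ D := fun q =>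
    ⟨fun ⟨q', hq', e⟩ => (mem_iff_of_π_eq A hc e).1 hq', fun hq => ⟨q, hq, rfl⟩⟩
  have hopen : IsOpen (A.π.left '' (D : Set A.P.left)) := by
    obtain ⟨V, v, σ, hσ, hv₁, hv₂, hv₃⟩ := QuotStLib.exists_sections A
    have e : A.π.left '' (D : Set A.P.left) =
        ⋃ t, (v t).left '' ((σ t).left ⁻¹ᵁ D : (V t).left.Opens) := by
      ext z
      constructor
      · intro hz
        obtain ⟨q, hq⟩ := hv₃ z
        refine Set.mem_iUnion.2 ⟨z, q, ?_, hq⟩
        refine (sat _).1 ?_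
        rwa [← Scheme.Hom.comp_apply, ← Over.comp_left, hσ, hq]
      · intro hz
        obtain ⟨t, q, hq, rfl⟩ := Set.mem_iUnion.1 hz
        exact ⟨(σ t).left q, hq, by rw [← Scheme.Hom.comp_apply, ← Over.comp_left, hσ]⟩
    rw [e]
    refine isOpen_iUnion fun t => ?_
    haveI := hv₁ t
    haveI := hv₂ t
    exact (v t).left.isOpenMap _ ((σ t).left ⁻¹ᵁ D).isOpen
  show A.π.left p ∈ interior (A.π.left '' (D : Set A.P.left)) ↔ _
  rw [hopen.interior_eq]
  exact sat p

theorem Tc_sup {a b : Γ(X.left, ⊤)} (ha : Inv aX a) (hb : Inv aX b) (hA : LiftAffLib.Punct a b A) :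
    Tc A a ⊔ Tc A b = ⊤ := by
  refine opens_ext A fun p => ?_
  have hp : p ∈ A.P.left.basicOpen (A.φ.left.appTop a) ⊔ A.P.left.basicOpen (A.φ.left.appTop b) := by
    rw [show A.P.left.basicOpen (A.φ.left.appTop a) ⊔ A.P.left.basicOpen (A.φ.left.appTop b) = ⊤ from hA]
    trivial
  rw [← LiftAffLib.preimage_bo, ← LiftAffLib.preimage_bo] at hp
  simp only [TopologicalSpace.Opens.mem_top, iff_true]
  rcases hp with h | h
  · exact Or.inl ((mem_Tc A ha p).2 h)
  · exact Or.inr ((mem_Tc A hb p).2 h)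

theorem Tc_inf {a b : Γ(X.left, ⊤)} (ha : Inv aX a) (hb : Inv aX b) (D : S.Opens)
    (hab : X.left.basicOpen a ⊓ X.left.basicOpen b = X.hom ⁻¹ᵁ D) :
    Tc A a ⊓ Tc A b = A.base.hom ⁻¹ᵁ D := by
  refine opens_ext A fun p => ?_
  show A.π.left p ∈ Tc A a ∧ A.π.left p ∈ Tc A b ↔ A.base.hom (A.π.left p) ∈ D
  rw [mem_Tc A ha, mem_Tc A hb, ← Scheme.Hom.comp_apply, Over.w A.π, ← Over.w A.φ, Scheme.Hom.comp_apply]
  exact SetLike.ext_iff.1 hab (A.φ.left p)

variable {A} in
theorem Tc_hom {B : AlgSt.QuotObj 𝕜 G aX} (k : A ⟶ B) (hc : Inv aX c) :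
    Tc A c = k.base.left ⁻¹ᵁ Tc B c := by
  refine opens_ext A fun p => ?_
  show _ ↔ k.base.left (A.π.left p) ∈ Tc B c
  rw [mem_Tc A hc, ← Scheme.Hom.comp_apply, ← Over.comp_left, ← k.cart.w, Over.comp_left, Scheme.Hom.comp_apply,
    mem_Tc B hc, ← Scheme.Hom.comp_apply, ← Over.comp_left, k.wφ]

theorem Tc_triv (hc : Inv aX c) {T : Over S} (x : T ⟶ X) :
    Tc (LiftAffLib.tr aX x) c = x.left ⁻¹ᵁ X.left.basicOpen c := by
  ext z
  let p : (G ⊗ T).left := (lift (1 : T ⟶ G) (𝟙 T)).left z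
  have hz : (LiftAffLib.tr aX x).π.left p = z := by
    show (snd G T).left p = z
    rw [← Scheme.Hom.comp_apply, ← Over.comp_left, lift_snd]; rfl
  have hx : (LiftAffLib.tr aX x).φ.left p = x.left z := by
    exact congrArg (fun m : T ⟶ X => m.left z)
      ((LiftAffLib.lift_one_φ (aX := aX) (𝟙 T) x).trans (Category.id_comp x))
  show z ∈ Tc _ c ↔ x.left z ∈ X.left.basicOpen c
  rw [← hx, ← hz]
  exact mem_Tc (LiftAffLib.tr aX x) hc p

end ThetaBGa
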